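import Groth.Agent.H11Tilde.StalkGen
import Groth.Agent.H29Blow.IdealMod
import Groth.Agent.H29Ref.DualStalk

/-!
# Locally principal ideal sheaves from their stalks
-/

set_option autoImplicit false
set_option linter.style.haveILetI false

noncomputable section

universe u

open CategoryTheory AlgebraicGeometry TopologicalSpace Opposite
open Groth.Agent.H11Tilde

namespace Groth.Agent.H11Mero

open Groth.Agent

variable {X : Scheme.{u}}

/-- Stalk ideals which are locally generated by one section come from an ideal sheaf. -/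
theorem exists_idealSheaf_of_stalks (S : ∀ y : X, Ideal (X.presheaf.stalk y))
    (h : ∀ x : X, ∃ (V : X.Opens) (γ : Γ(X, V)), x ∈ V ∧
      ∀ (y : X) (hy : y ∈ V), S y = Ideal.span {X.presheaf.germ V y hy γ}) :
    ∃ I : X.IdealSheafData, ∀ (U : X.affineOpens) (f : Γ(X, U.1)),
      f ∈ I.ideal U ↔ ∀ (y : X) (hy : y ∈ U.1), X.presheaf.germ U.1 y hy f ∈ S y := by
  let I₀ : ∀ U : X.affineOpens, Ideal Γ(X, U.1) := fun U =>
    ⨅ (y : X) (hy : y ∈ U.1), (S y).comap (X.presheaf.germ U.1 y hy).hom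
  have hI₀ : ∀ (U : X.affineOpens) (f : Γ(X, U.1)),
      f ∈ I₀ U ↔ ∀ (y : X) (hy : y ∈ U.1), X.presheaf.germ U.1 y hy f ∈ S y := fun U f => by
    simp only [I₀, Submodule.mem_iInf, Ideal.mem_comap]
  have hmap : ∀ (U : X.affineOpens) (g : Γ(X, U.1)),
      (I₀ U).map (X.presheaf.map (homOfLE (X.basicOpen_le g)).op).hom = I₀ (X.affineBasicOpen g) := by
    intro U g
    refine le_antisymm (Ideal.map_le_iff_le_comap.2 fun f hf => ?_) fun f hf => ?_
    · refine Ideal.mem_comap.2 ((hI₀ (X.affineBasicOpen g) _).2 fun y hy => ?_)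
      exact (congrArg (· ∈ S y) (X.presheaf.germ_res_apply (homOfLE (X.basicOpen_le g)) y hy f)).mpr
        ((hI₀ U f).1 hf y _)
    · replace hf := (hI₀ (X.affineBasicOpen g) f).1 hf
      haveI := U.2.isLocalization_basicOpen g
      obtain ⟨n, f₀, hf₀⟩ := IsLocalization.Away.surj g f
      have hu : IsUnit (algebraMap Γ(X, U.1) Γ(X, X.basicOpen g) g) := IsLocalization.Away.algebraMap_isUnit g
      have hf0 : ∀ (y : X) (hy : y ∈ X.basicOpen g), X.presheaf.germ U.1 y (X.basicOpen_le g hy) f₀ ∈ S y := by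
        intro y hy
        have h1 := congrArg (X.presheaf.germ (X.basicOpen g) y hy) hf₀
        rw [map_mul, show X.presheaf.germ (X.basicOpen g) y hy (algebraMap Γ(X, U.1) Γ(X, X.basicOpen g) f₀) =
          X.presheaf.germ U.1 y (X.basicOpen_le g hy) f₀ from X.presheaf.germ_res_apply _ y hy f₀] at h1
        rw [← h1]
        exact Ideal.mul_mem_right _ _ (hf y hy)
      have hpt : ∀ x : U.1, ∃ (W : X.Opens) (N : ℕ) (hle : W ≤ U.1), x.1 ∈ W ∧
          ∀ (y : X) (hy : y ∈ W), X.presheaf.germ U.1 y (hle hy) (g ^ N * f₀) ∈ S y := by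
        intro x
        obtain ⟨V, γ, hxV, hV⟩ := h x.1
        obtain ⟨e, heV, hxe⟩ := U.2.exists_basicOpen_le (V := V) ⟨x.1, hxV⟩ x.2
        let W := X.basicOpen e
        let g' := X.presheaf.map (homOfLE (X.basicOpen_le e)).op g
        let f' := X.presheaf.map (homOfLE (X.basicOpen_le e)).op f₀
        let γ' := X.presheaf.map (homOfLE heV).op γ
        haveI := (U.2.basicOpen e).isLocalization_basicOpen g'
        have hle : X.basicOpen g' ≤ W := X.basicOpen_le g'
        have hmem : algebraMap Γ(X, W) Γ(X, X.basicOpen g') f' ∈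
            (Ideal.span {γ'}).map (algebraMap Γ(X, W) Γ(X, X.basicOpen g')) := by
          rw [((U.2.basicOpen e).basicOpen g').mem_ideal_iff]
          intro y hy
          have hyg : y ∈ X.basicOpen g := (le_of_eq (X.basicOpen_res g (homOfLE (X.basicOpen_le e)).op) hy).2
          have h1 := hf0 y hyg
          rw [hV y (heV (hle hy))] at h1
          rw [Ideal.map_span, Set.image_singleton, Ideal.map_span, Set.image_singleton]
          have e1 : ∀ c : Γ(X, W), X.presheaf.germ (X.basicOpen g') y hy (algebraMap Γ(X, W) _ c) =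
              X.presheaf.germ W y (hle hy) c := fun c => X.presheaf.germ_res_apply _ y hy c
          refine (congrArg₂ (fun a b => a ∈ Ideal.span {b}) ((e1 f').trans (X.presheaf.germ_res_apply _ y _ _))
            ((e1 γ').trans (X.presheaf.germ_res_apply _ y _ _))).mpr ?_
          exact h1
        obtain ⟨_, ⟨N, rfl⟩, hN⟩ := (IsLocalization.algebraMap_mem_map_algebraMap_iff (Submonoid.powers g')
          Γ(X, X.basicOpen g') _ _).1 hmem
        refine ⟨W, N, X.basicOpen_le e, hxe, fun y hy => ?_⟩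
        rw [hV y (heV hy)]
        have h2 := Ideal.mem_map_of_mem (X.presheaf.germ W y hy).hom hN
        rw [Ideal.map_span, Set.image_singleton] at h2
        simp only [γ', g', f', map_mul, map_pow, X.presheaf.germ_res_apply] at h2 ⊢
        exact h2
      choose W N hW hxW hN using hpt
      obtain ⟨T, hT⟩ := U.2.isCompact.elim_finite_subcover (fun x : U.1 => (W x : Set X))
        (fun x => (W x).2) (fun x hx => Set.mem_iUnion.2 ⟨⟨x, hx⟩, hxW ⟨x, hx⟩⟩)
      let M := T.sup N
      have hM : g ^ M * f₀ ∈ I₀ U := by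
        rw [hI₀]
        intro y hy
        obtain ⟨z, hzT, hyz⟩ := Set.mem_iUnion₂.1 (hT hy)
        obtain ⟨d, hd⟩ := Nat.exists_eq_add_of_le (Finset.le_sup (f := N) hzT)
        rw [show M = _ from hd, pow_add, mul_right_comm, map_mul]
        exact Ideal.mul_mem_right _ _ (hN z y hyz)
      have := Ideal.mem_map_of_mem (X.presheaf.map (homOfLE (X.basicOpen_le g)).op).hom hM
      change algebraMap Γ(X, U.1) Γ(X, X.basicOpen g) (g ^ M * f₀) ∈ _ at this
      rw [map_mul, ← hf₀, map_pow] at this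
      rwa [Ideal.unit_mul_mem_iff_mem _ (hu.pow M), Ideal.mul_unit_mem_iff_mem _ (hu.pow n)] at this
  exact ⟨{ ideal := I₀, map_ideal_basicOpen := hmap }, hI₀⟩

/-- A section of the ideal module whose image generates the stalks is a generator. -/
theorem isGen_idealMod (I : X.IdealSheafData) {W : X.Opens} (g : Γ(ClSub.idealMod I, W))
    (hnzd : ∀ (y : X) (hy : y ∈ W),
      X.presheaf.germ W y hy (OmegaSh.idealSect I W g) ∈ nonZeroDivisors (X.presheaf.stalk y))
    (hspan : ∀ (U : X.affineOpens) (_ : U.1 ≤ W) (f : Γ(X, U.1)), f ∈ I.ideal U → ∀ (y : X) (hy : y ∈ U.1) (hy' : y ∈ W),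
      X.presheaf.germ U.1 y hy f ∈ Ideal.span {X.presheaf.germ W y hy' (OmegaSh.idealSect I W g)}) :
    IsGen (ClSub.idealMod I) g := by
  intro y hy
  let γ := X.presheaf.germ W y hy (OmegaSh.idealSect I W g)
  let ρ := RefHull.stalkMapₗ (ClSub.idealModι I) y
  have hρ : ∀ (B : X.Opens) (hB : y ∈ B) (m : Γ(ClSub.idealMod I, B)),
      ρ ((ClSub.idealMod I).presheaf.germ B y hB m) =
        (Coh.structureModule X).presheaf.germ B y hB (OmegaSh.idealSect I B m : Γ(X, B)) :=
    fun B hB m => RefHull.stalkMapₗ_germ _ y hB m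
  have hinj : Function.Injective ρ := by
    intro p q hpq
    obtain ⟨B, hB, m, rfl⟩ := TopCat.Presheaf.exists_germ_eq (ClSub.idealMod I).presheaf p
    obtain ⟨B', hB', m', rfl⟩ := TopCat.Presheaf.exists_germ_eq (ClSub.idealMod I).presheaf q
    rw [hρ, hρ] at hpq
    obtain ⟨C, hC, i, i', h⟩ := (Coh.structureModule X).presheaf.germ_eq y _ _ _ _ hpq
    have h2 : (ClSub.idealMod I).presheaf.map i.op m = (ClSub.idealMod I).presheaf.map i'.op m' :=
      H29Blow.idealSect_injective I C
        ((H29Blow.idealSect_res I i.le m).trans (h.trans (H29Blow.idealSect_res I i'.le m').symm))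
    rw [← TopCat.Presheaf.germ_res_apply _ i y hC m, h2, TopCat.Presheaf.germ_res_apply]
  have hsm : ∀ r : X.presheaf.stalk y, ρ (r • (ClSub.idealMod I).presheaf.germ W y hy g) =
      (r * γ) • H29Ref.oneStalk y := fun r => by
    rw [map_smul, hρ, mul_smul, H29Ref.germ_unit_eq_smul]
  refine ⟨fun r r' h => ?_, fun v => ?_⟩
  · have h1 := congrArg ρ h
    rw [hsm, hsm] at h1
    exact (mul_cancel_right_mem_nonZeroDivisors (hnzd y hy)).1 ((H29Ref.bijective_smul_oneStalk y).1 h1)
  · obtain ⟨B, hB, m, rfl⟩ := TopCat.Presheaf.exists_germ_eq (ClSub.idealMod I).presheaf v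
    obtain ⟨U, hU, hyU, hUle⟩ := exists_isAffineOpen_mem_and_subset (x := y) (U := B ⊓ W) ⟨hB, hy⟩
    let mU := (ClSub.idealMod I).presheaf.map (homOfLE (le_trans hUle inf_le_left : U ≤ B)).op m
    have hmem : OmegaSh.idealSect I U mU ∈ I.ideal ⟨U, hU⟩ :=
      (H29Blow.mem_ideal_iff_exists_idealSect I hU _).2 ⟨mU, rfl⟩
    obtain ⟨r, hr⟩ := Ideal.mem_span_singleton'.1
      (hspan ⟨U, hU⟩ (le_trans hUle inf_le_right) _ hmem y hyU hy)
    refine ⟨r, hinj ?_⟩
    rw [hsm, hρ, H29Ref.germ_unit_eq_smul]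
    refine congrArg (· • H29Ref.oneStalk y) (hr.trans ?_)
    rw [H29Blow.idealSect_res I (le_trans hUle inf_le_left : U ≤ B) m]
    exact X.presheaf.germ_res_apply _ y hyU _

end Groth.Agent.H11Mero
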