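import Groth.Agent.H11Mero.Denominators
import Groth.Agent.H11Mero.Glue
import Groth.Agent.H11Strict.BlowChartBase
import Groth.Agent.H29Blow.Relative
import Groth.Prelude.Def_CohB1

/-!
# Blowing up the ideal of denominators of a regular meromorphic section
-/

set_option autoImplicit false
set_option linter.style.haveILetI false

noncomputable section

universe u

open CategoryTheory CategoryTheory.Limits AlgebraicGeometry TopologicalSpace Opposite
open Groth.Agent.H11Tilde Groth.Agent.H11Ample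

namespace Groth.Agent.H11Mero

open Groth.Agent

variable {X : Scheme.{u}}

/-- A nonzerodivisor on an affine open is a nonzerodivisor in the stalks. -/
theorem germ_mem_nonZeroDivisors {U : X.Opens} (hU : IsAffineOpen U) {f : Γ(X, U)}
    (hf : f ∈ nonZeroDivisors Γ(X, U)) {y : X} (hy : y ∈ U) :
    X.presheaf.germ U y hy f ∈ nonZeroDivisors (X.presheaf.stalk y) := by
  letI := X.presheaf.algebra_section_stalk (⟨y, hy⟩ : U)
  haveI := hU.isLocalization_stalk ⟨y, hy⟩
  exact IsLocalization.map_nonZeroDivisors_le (hU.primeIdealOf ⟨y, hy⟩).asIdeal.primeCompl _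
    (Submonoid.mem_map_of_mem _ hf)

variable {L : X.Modules} (s : Γ(Mero.merMod L, ⊤))

/-- An affine chart in which both numerator and denominator are nonzerodivisors. -/
theorem exists_affine_chart (hL : PicF.IsInvertible L) (hs : Mero.IsRegularMero L s) (x : X) :
    ∃ (V : X.Opens) (_ : IsAffineOpen V) (e : Γ(L, V)) (a b : Γ(X, V)), x ∈ V ∧ IsGen L e ∧
      (∃ hb : b ∈ Mero.regSub X V, ∀ y : V, s.1 ⟨y.1, Opens.mem_top y.1⟩ =
        LocalizedModule.mk (L.presheaf.germ V y.1 y.2 (a • e)) (Mero.regGerm y ⟨b, hb⟩)) ∧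
      a ∈ nonZeroDivisors Γ(X, V) ∧ b ∈ nonZeroDivisors Γ(X, V) ∧ b ∈ Mero.denomIdeal L s V ∧
      ∀ f ∈ Mero.denomIdeal L s V, ∃ c, c * b = f * a := by
  obtain ⟨V₀, e₀, a₀, b₀, hxV₀, he₀, hb₀, hs₀⟩ := exists_chart s hL x
  obtain ⟨V, hV, hxV, hVV₀⟩ := exists_isAffineOpen_mem_and_subset (x := x) (U := V₀) hxV₀
  let e := L.presheaf.map (homOfLE hVV₀).op e₀
  let a := X.presheaf.map (homOfLE hVV₀).op a₀
  let b := X.presheaf.map (homOfLE hVV₀).op b₀
  have he : IsGen L e := he₀.res hVV₀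
  have hb : b ∈ Mero.regSub X V := Mero.regSub_res _ hb₀
  have hse : ∀ y : V, s.1 ⟨y.1, Opens.mem_top y.1⟩ =
      LocalizedModule.mk (L.presheaf.germ V y.1 y.2 (a • e)) (Mero.regGerm y ⟨b, hb⟩) := fun y => by
    refine (hs₀ ⟨y.1, hVV₀ y.2⟩).trans (Mero.mk_congr ?_ ?_)
    · rw [Mero.germ_smul, Mero.germ_smul]
      exact (congrArg₂ (· • ·) (X.presheaf.germ_res_apply (homOfLE hVV₀) y.1 y.2 a₀)
        (L.presheaf.germ_res_apply (homOfLE hVV₀) y.1 y.2 e₀)).symm
    · exact (X.presheaf.germ_res_apply _ y.1 y.2 b₀).symm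
  have hbn : b ∈ nonZeroDivisors Γ(X, V) := mem_nonZeroDivisors_iff_right.2 fun c hc =>
    TopCat.Presheaf.section_ext X.sheaf V _ _ fun y hy => by
      refine Eq.trans ?_ (map_zero (X.presheaf.germ V y hy).hom).symm
      have h1 := congrArg (X.presheaf.germ V y hy) hc
      rw [map_mul, map_zero] at h1
      exact (mem_nonZeroDivisors_iff_right.1 (Mero.regStalk_le_nonZeroDivisors y
        (Mero.regGerm ⟨y, hy⟩ ⟨b, hb⟩).2)) _ h1
  have han : a ∈ nonZeroDivisors Γ(X, V) := mem_nonZeroDivisors_iff_right.2 fun c hc =>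
    TopCat.Presheaf.section_ext X.sheaf V _ _ fun y hy => by
      refine Eq.trans ?_ (map_zero (X.presheaf.germ V y hy).hom).symm
      have h1 := hs y (algebraMap _ (Mero.KStalk X y) (X.presheaf.germ V y hy c)) (by
        rw [algebraMap_smul, hse ⟨y, hy⟩, LocalizedModule.smul'_mk, Mero.germ_smul, smul_smul, ← map_mul, hc,
          map_zero, zero_smul, LocalizedModule.zero_mk])
      refine IsLocalization.injective (Mero.KStalk X y) (M := Mero.regStalk X y)
        (Mero.regStalk_le_nonZeroDivisors y) ?_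
      rw [map_zero]
      exact h1
  have hcolon := fun f : Γ(X, V) => mem_denomIdeal_iff s hL he hb hse le_rfl f
  have hid : ∀ c : Γ(X, V), X.presheaf.map (homOfLE (le_refl V)).op c = c := fun c =>
    congr($(X.presheaf.map_id (op V)) c)
  refine ⟨V, hV, e, a, b, hxV, he, ⟨hb, hse⟩, han, hbn, ?_, fun f hf => ?_⟩
  · rw [hcolon, hid, hid]
    exact Ideal.mul_mem_right _ _ (Ideal.mem_span_singleton_self _)
  · have h1 := (hcolon f).1 hf
    rw [hid, hid, Ideal.mem_span_singleton'] at h1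
    exact h1

variable [IsLocallyNoetherian X] (I : X.IdealSheafData)
  (hI : ∀ V : X.affineOpens, I.ideal V = Mero.denomIdeal L s V.1) {X' : Scheme.{u}} {b : X' ⟶ X}

omit [IsLocallyNoetherian X] in
include hI in
/-- Local factorisations on the blow-up. -/
theorem exists_local (hL : PicF.IsInvertible L) (hs : Mero.IsRegularMero L s) (hb : BlowUp.IsBlowUp b I) (y : X') :
    ∃ (V : X.Opens) (e : Γ(L, V)) (a d : Γ(X, V)) (W : X'.Opens) (hW : IsAffineOpen W) (hle : W ≤ b ⁻¹ᵁ V)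
      (ε β γ : Γ(X', W)), y ∈ W ∧ IsGen L e ∧
      (∃ hd : d ∈ Mero.regSub X V, ∀ z : V, s.1 ⟨z.1, Opens.mem_top z.1⟩ =
        LocalizedModule.mk (L.presheaf.germ V z.1 z.2 (a • e)) (Mero.regGerm z ⟨d, hd⟩)) ∧
      b.appLE V W hle d = ε * β ∧ b.appLE V W hle a = β * γ ∧
      (BlowUp.exceptional b I).ideal ⟨W, hW⟩ = Ideal.span {ε} ∧
      ε ∈ nonZeroDivisors Γ(X', W) ∧ β ∈ nonZeroDivisors Γ(X', W) ∧ γ ∈ nonZeroDivisors Γ(X', W) := by
  obtain ⟨V, hV, e, a, d, hxV, he, hd, han, hdn, hdI, hcolon⟩ := exists_affine_chart s hL hs (b y)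
  obtain ⟨k, hok, hk, hr⟩ := H11Strict.BlowProj.exists_proj_chart hb ⟨V, hV⟩
  obtain ⟨w, hw⟩ := (hr.ge hxV : y ∈ k.opensRange)
  obtain ⟨g, hg⟩ := Opens.mem_iSup.1 ((H26Blow.iSup_basicOpen (I.ideal ⟨V, hV⟩)).ge (Set.mem_univ w))
  rw [← H26Blow.opensRange_j] at hg
  obtain ⟨v, rfl⟩ := hg
  let W := H11Strict.BlowProj.cO k g
  have hW : IsAffineOpen W := H11Strict.BlowProj.cO_affine k g
  have hle : W ≤ b ⁻¹ᵁ V := H11Strict.BlowProj.cO_le k hk g
  obtain ⟨hE, hεn⟩ := H11Strict.BlowProj.ideal_cO k hk g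
  have hnzd : ∀ c ∈ nonZeroDivisors Γ(X, V), b.appLE V W hle c ∈ nonZeroDivisors Γ(X', W) := by
    intro c hc
    refine mem_nonZeroDivisors_iff_right.2 fun z hz => (H11Strict.BlowProj.φ_bijective k g).1 ?_
    rw [map_zero]
    have h1 := congrArg (H11Strict.BlowProj.φ k g) hz
    rw [map_mul, map_zero, H11Strict.BlowProj.φ_appLE k hk g hle c] at h1
    refine Subtype.ext ((mem_nonZeroDivisors_iff_right.1 ?_) _ (congrArg Subtype.val h1))
    exact IsLocalization.map_nonZeroDivisors_le (Submonoid.powers (g : Γ(X, V))) _ (Submonoid.mem_map_of_mem _ hc)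
  have hEmap : (BlowUp.exceptional b I).ideal ⟨W, hW⟩ = (I.ideal ⟨V, hV⟩).map (b.appLE V W hle).hom :=
    _root_.H29Blow.ideal_comap I b ⟨V, hV⟩ ⟨W, hW⟩ hle
  let ε := b.appLE V W hle (g : Γ(X, V))
  have hdE : b.appLE V W hle d ∈ (BlowUp.exceptional b I).ideal ⟨W, hW⟩ := by
    rw [hEmap]
    exact Ideal.mem_map_of_mem _ ((hI ⟨V, hV⟩).ge hdI)
  rw [hE, Ideal.mem_span_singleton'] at hdE
  obtain ⟨β, hβ⟩ := hdE
  obtain ⟨c, hc⟩ := hcolon (g : Γ(X, V)) ((hI ⟨V, hV⟩).le g.2)
  have hβn : β ∈ nonZeroDivisors Γ(X', W) := (mul_mem_nonZeroDivisors.1 (hβ ▸ hnzd d hdn)).1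
  have haβ : b.appLE V W hle a = β * b.appLE V W hle c := by
    refine (mul_cancel_left_mem_nonZeroDivisors hεn).1 ?_
    rw [← map_mul, ← hc, map_mul, ← hβ]
    ring
  exact ⟨V, e, a, d, W, hW, hle, ε, β, b.appLE V W hle c, ⟨v, hw⟩, he, hd, hβ.symm.trans (mul_comm _ _), haβ, hE,
    hεn, hβn, (mul_mem_nonZeroDivisors.1 (haβ ▸ hnzd a han)).2⟩

omit [IsLocallyNoetherian X] in
/-- Two charts give the same fraction. -/
theorem ratio_eq {V V' : X.Opens} {e : Γ(L, V)} {e' : Γ(L, V')} {a d : Γ(X, V)} {a' d' : Γ(X, V')}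
    (he' : IsGen L e') (hd : d ∈ Mero.regSub X V) (hd' : d' ∈ Mero.regSub X V')
    (hs : ∀ z : V, s.1 ⟨z.1, Opens.mem_top z.1⟩ =
      LocalizedModule.mk (L.presheaf.germ V z.1 z.2 (a • e)) (Mero.regGerm z ⟨d, hd⟩))
    (hs' : ∀ z : V', s.1 ⟨z.1, Opens.mem_top z.1⟩ =
      LocalizedModule.mk (L.presheaf.germ V' z.1 z.2 (a' • e')) (Mero.regGerm z ⟨d', hd'⟩))
    {c : Γ(X, V ⊓ V')}
    (hc : L.presheaf.map (homOfLE inf_le_left).op e = c • L.presheaf.map (homOfLE inf_le_right).op e')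
    {x : X} (hx : x ∈ V) (hx' : x ∈ V') :
    X.presheaf.germ V x hx a * X.presheaf.germ (V ⊓ V') x ⟨hx, hx'⟩ c * X.presheaf.germ V' x hx' d' =
      X.presheaf.germ V' x hx' a' * X.presheaf.germ V x hx d := by
  have hc' := congrArg (L.presheaf.germ (V ⊓ V') x ⟨hx, hx'⟩) hc
  rw [TopCat.Presheaf.germ_res_apply, Mero.germ_smul, TopCat.Presheaf.germ_res_apply] at hc'
  obtain ⟨u, hu⟩ := LocalizedModule.mk_eq.1 ((hs ⟨x, hx⟩).symm.trans (hs' ⟨x, hx'⟩))
  simp only [Submonoid.smul_def, Mero.germ_smul, hc', smul_smul] at hu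
  have h2 := (he' x hx').1 hu
  refine (mul_cancel_left_mem_nonZeroDivisors (Mero.regStalk_le_nonZeroDivisors x u.2)).1 ?_
  have h3 : (u : X.presheaf.stalk x) * X.presheaf.germ V' x hx' d' *
      (X.presheaf.germ V x hx a * X.presheaf.germ (V ⊓ V') x ⟨hx, hx'⟩ c) =
      (u : X.presheaf.stalk x) * X.presheaf.germ V x hx d * X.presheaf.germ V' x hx' a' := by
    linear_combination h2
  linear_combination h3

omit [IsLocallyNoetherian X] in
include hI in
/-- The divisor of zeros on the blow-up. -/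
theorem exists_divisor (hL : PicF.IsInvertible L) (hs : Mero.IsRegularMero L s) (hb : BlowUp.IsBlowUp b I) :
    ∃ 𝓓 : X'.IdealSheafData, BlowUp.IsEffCartierIdeal 𝓓 ∧
      Nonempty (CohB1.tensorMod ((Scheme.Modules.pullback b).obj L) (ClSub.idealMod 𝓓) ≅
        ClSub.idealMod (I.comap b)) := by
  choose V e a d W hW hle ε β γ hyW he hd hdf haf hE hεn hβn hγn using exists_local s I hI hL hs hb
  choose hd hsd using hd
  -- the transition between two charts
  have key : ∀ (i j : X') (c : Γ(X, V i ⊓ V j))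
      (_ : L.presheaf.map (homOfLE inf_le_left).op (e i) = c • L.presheaf.map (homOfLE inf_le_right).op (e j))
      (z : X') (hi : z ∈ W i) (hj : z ∈ W j),
      X'.presheaf.germ (W i) z hi (γ i) * b.stalkMap z (X.presheaf.germ (V i ⊓ V j) (b z) ⟨hle i hi, hle j hj⟩ c) *
          X'.presheaf.germ (W j) z hj (ε j) =
        X'.presheaf.germ (W j) z hj (γ j) * X'.presheaf.germ (W i) z hi (ε i) := by
    intro i j c hc z hi hj
    have hsm : ∀ (k : X') (hk : z ∈ W k) (q : Γ(X, V k)),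
        b.stalkMap z (X.presheaf.germ (V k) (b z) (hle k hk) q) =
          X'.presheaf.germ (W k) z hk (b.appLE (V k) (W k) (hle k) q) := fun k hk q => by
      rw [Scheme.Hom.germ_stalkMap_apply]
      exact (X'.presheaf.germ_res_apply (homOfLE (hle k)) z hk _).symm
    have h0 := ratio_eq s (he j) (hd i) (hd j) (hsd i) (hsd j) hc (hle i hi) (hle j hj)
    have h : b.stalkMap z _ = b.stalkMap z _ := congrArg (fun t => b.stalkMap z t) h0
    rw [map_mul, map_mul, map_mul, hsm i hi, hsm j hj, hsm i hi, hsm j hj, haf, hdf, hdf, haf, map_mul, map_mul, map_mul, map_mul] at h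
    refine (mul_cancel_left_mem_nonZeroDivisors
      (mul_mem (germ_mem_nonZeroDivisors (hW i) (hβn i) hi) (germ_mem_nonZeroDivisors (hW j) (hβn j) hj))).1 ?_
    linear_combination h
  have hεunit : ∀ (i j : X') (z : X') (hi : z ∈ W i) (hj : z ∈ W j),
      ∃ w : (X'.presheaf.stalk z)ˣ, X'.presheaf.germ (W i) z hi (ε i) = w * X'.presheaf.germ (W j) z hj (ε j) := by
    intro i j z hi hj
    obtain ⟨N, hN, hzN, hNle⟩ := exists_isAffineOpen_mem_and_subset (x := z) (U := W i ⊓ W j) ⟨hi, hj⟩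
    have hNi : N ≤ W i := hNle.trans inf_le_left
    have hNj : N ≤ W j := hNle.trans inf_le_right
    have h1 := (BlowUp.exceptional b I).map_ideal (U := ⟨N, hN⟩) (V := ⟨W i, hW i⟩) hNi
    have h2 := (BlowUp.exceptional b I).map_ideal (U := ⟨N, hN⟩) (V := ⟨W j, hW j⟩) hNj
    rw [hE, Ideal.map_span, Set.image_singleton] at h1 h2
    have h3 := congrArg (Ideal.map (X'.presheaf.germ N z hzN).hom) (h1.trans h2.symm)
    rw [Ideal.map_span, Ideal.map_span, Set.image_singleton, Set.image_singleton] at h3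
    have e1 : ∀ (k : X') (hN' : N ≤ W k) (hk : z ∈ W k), (X'.presheaf.germ N z hzN).hom
        ((X'.presheaf.map (homOfLE hN').op).hom (ε k)) = X'.presheaf.germ (W k) z hk (ε k) := fun k hN' hk =>
      X'.presheaf.germ_res_apply (homOfLE hN') z hzN _
    replace h3 := (congrArg₂ (fun p q => Ideal.span {p} = Ideal.span {q}) (e1 i hNi hi) (e1 j hNj hj)).mp h3
    obtain ⟨w, hw⟩ := Ideal.mem_span_singleton'.1 (h3.le (Ideal.mem_span_singleton_self _))
    obtain ⟨w', hw'⟩ := Ideal.mem_span_singleton'.1 (h3.ge (Ideal.mem_span_singleton_self _))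
    have hww : w' * w = 1 := (mul_cancel_right_mem_nonZeroDivisors (germ_mem_nonZeroDivisors (hW j) (hεn j) hj)).1
      (by rw [mul_assoc, hw, hw', one_mul])
    exact ⟨⟨w, w', (mul_comm _ _).trans hww, hww⟩, hw.symm⟩
  let S : ∀ z : X', Ideal (X'.presheaf.stalk z) := fun z => Ideal.span {X'.presheaf.germ (W z) z (hyW z) (γ z)}
  have hmem : ∀ (i j : X') (z : X') (hi : z ∈ W i) (hj : z ∈ W j),
      X'.presheaf.germ (W j) z hj (γ j) ∈ Ideal.span {X'.presheaf.germ (W i) z hi (γ i)} := by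
    intro i j z hi hj
    obtain ⟨c, hc⟩ := transition (ei := e i) (he j)
    obtain ⟨w, hw⟩ := hεunit i j z hi hj
    have h := key i j c hc z hi hj
    rw [hw, ← mul_assoc] at h
    have h2 := (mul_cancel_right_mem_nonZeroDivisors (germ_mem_nonZeroDivisors (hW j) (hεn j) hj)).1 h
    rw [← Ideal.mul_unit_mem_iff_mem _ w.isUnit, ← h2]
    exact Ideal.mul_mem_right _ _ (Ideal.mem_span_singleton_self _)
  have hS : ∀ (i : X') (z : X') (hz : z ∈ W i), S z = Ideal.span {X'.presheaf.germ (W i) z hz (γ i)} :=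
    fun i z hz => le_antisymm ((Ideal.span_singleton_le_iff_mem _).2 (hmem i z z hz (hyW z)))
      ((Ideal.span_singleton_le_iff_mem _).2 (hmem z i z (hyW z) hz))
  obtain ⟨𝓓, h𝓓⟩ := exists_idealSheaf_of_stalks S fun x => ⟨W x, γ x, hyW x, hS x⟩
  have h𝓓W : ∀ i, 𝓓.ideal ⟨W i, hW i⟩ = Ideal.span {γ i} := fun i => by
    ext f
    rw [h𝓓, (hW i).mem_ideal_iff]
    refine forall₂_congr fun z hz => ?_
    rw [hS i z hz, Ideal.map_span, Set.image_singleton]
  have h𝓓C : BlowUp.IsEffCartierIdeal 𝓓 := fun x =>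
    ⟨⟨W x, hW x⟩, hyW x, γ x, hγn x, h𝓓W x⟩
  refine ⟨𝓓, h𝓓C, ?_⟩
  choose g hg using fun i => (H29Blow.mem_ideal_iff_exists_idealSect 𝓓 (hW i) (γ i)).1
    ((h𝓓W i).ge (Ideal.mem_span_singleton_self _))
  choose η hη using fun i => (H29Blow.mem_ideal_iff_exists_idealSect (I.comap b) (hW i) (ε i)).1
    ((hE i).ge (Ideal.mem_span_singleton_self _))
  have hgen𝓓 : ∀ i, IsGen (ClSub.idealMod 𝓓) (g i) := fun i => isGen_idealMod 𝓓 (g i)
    (fun z hz => by rw [hg]; exact germ_mem_nonZeroDivisors (hW i) (hγn i) hz)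
    fun U hUW f hf z hz hz' => by rw [hg, ← hS i z hz']; exact (h𝓓 U f).1 hf z hz
  have hgenE : ∀ i, IsGen (ClSub.idealMod (I.comap b)) (η i) := fun i => isGen_idealMod _ (η i)
    (fun z hz => by rw [hη]; exact germ_mem_nonZeroDivisors (hW i) (hεn i) hz)
    fun U hUW f hf z hz hz' => by
      have h1 := (BlowUp.exceptional b I).map_ideal (U := U) (V := ⟨W i, hW i⟩) hUW
      rw [hE, Ideal.map_span, Set.image_singleton] at h1
      obtain ⟨q, hq⟩ := Ideal.mem_span_singleton'.1 (h1.ge hf)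
      rw [hη, Ideal.mem_span_singleton']
      refine ⟨X'.presheaf.germ U.1 z hz q, ?_⟩
      rw [← hq, map_mul]
      exact congrArg _ (X'.presheaf.germ_res_apply _ z hz _).symm
  let p : ∀ i, Γ((Scheme.Modules.pullback b).obj L, W i) := fun i =>
    ((Scheme.Modules.pullback b).obj L).presheaf.map (homOfLE (hle i)).op (OmegaSh.pullSect b L (V i) (e i))
  obtain ⟨φ, -⟩ := exists_iso_of_gen W (fun x => ⟨x, hyW x⟩) (fun i => tm (p i) (g i))
    (fun i => isGen_tm ((IsGen.pullSect b (he i)).res (hle i)) (hgen𝓓 i)) η hgenE fun i j u hu => by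
      let T := W i ⊓ W j
      have hT : T ≤ b ⁻¹ᵁ (V i ⊓ V j) := fun z hz => ⟨hle i hz.1, hle j hz.2⟩
      obtain ⟨c, hc⟩ := transition (ei := e i) (he j)
      obtain ⟨v, hv⟩ := transition (ei := g i) (hgen𝓓 j)
      let c' := b.appLE (V i ⊓ V j) T hT c
      let M := (Scheme.Modules.pullback b).obj L
      have hp : M.presheaf.map (homOfLE (inf_le_left : T ≤ W i)).op (p i) =
          c' • M.presheaf.map (homOfLE (inf_le_right : T ≤ W j)).op (p j) := by
        have h1 := congrArg (fun t => M.presheaf.map (homOfLE hT).op (OmegaSh.pullSect b L (V i ⊓ V j) t)) hc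
        rw [OmegaSh.pullSect_map b L, show OmegaSh.pullSect b L (V i ⊓ V j)
            (c • L.presheaf.map (homOfLE (inf_le_right : V i ⊓ V j ≤ V j)).op (e j)) =
            b.app (V i ⊓ V j) c • OmegaSh.pullSect b L (V i ⊓ V j)
              (L.presheaf.map (homOfLE (inf_le_right : V i ⊓ V j ≤ V j)).op (e j)) from
          Scheme.Modules.Hom.app_smul _ c _, OmegaSh.pullSect_map b L, Scheme.Modules.map_smul,
          H10Coh.mres_mres, H10Coh.mres_mres] at h1
        simp only [p]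
        rw [H10Coh.mres_mres, H10Coh.mres_mres]
        exact h1
      rw [tm_res, tm_res, hp, hv, tm_smul_left, tm_smul_right, smul_smul] at hu
      have hu' := ((isGen_tm ((IsGen.pullSect b (he j)).res (hle j)) (hgen𝓓 j)).res (inf_le_right : T ≤ W j)).bijective le_rfl
      rw [tm_res] at hu'
      have hcv : c' * v = u := hu'.1 (by beta_reduce; rw [H10Coh.mres_self]; exact hu)
      refine H29Blow.idealSect_injective (I.comap b) T ?_
      rw [H29Blow.idealSect_res, H29Blow.idealSect_smul, H29Blow.idealSect_res, hη, hη, ← hcv]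
      refine TopCat.Presheaf.section_ext X'.sheaf T _ _ fun z hz => ?_
      show X'.presheaf.germ T z hz _ = X'.presheaf.germ T z hz _
      rw [map_mul, map_mul, TopCat.Presheaf.germ_res_apply, TopCat.Presheaf.germ_res_apply]
      have hγ := congrArg (fun t => X'.presheaf.germ T z hz (OmegaSh.idealSect 𝓓 T t)) hv
      simp only [H29Blow.idealSect_res, H29Blow.idealSect_smul, hg, map_mul,
        TopCat.Presheaf.germ_res_apply] at hγ
      have hk := key i j c hc z hz.1 hz.2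
      rw [hγ] at hk
      have hc' : b.stalkMap z (X.presheaf.germ (V i ⊓ V j) (b z) ⟨hle i hz.1, hle j hz.2⟩ c) =
          X'.presheaf.germ T z hz c' := by
        rw [Scheme.Hom.germ_stalkMap_apply]
        exact (X'.presheaf.germ_res_apply (homOfLE hT) z hz _).symm
      rw [hc'] at hk
      refine (mul_cancel_left_mem_nonZeroDivisors (germ_mem_nonZeroDivisors (hW j) (hγn j) hz.2)).1 ?_
      linear_combination -hk
  exact ⟨φ⟩

omit [IsLocallyNoetherian X] in
include hI in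
/-- The complement of the support is the domain. -/
theorem compl_support_eq :
    ((I.support.compl : X.Opens) : Set X) = Mero.domain L s := by
  ext x
  have hcoe : x ∈ ((I.support.compl : X.Opens) : Set X) ↔ x ∉ (I.support : Set X) := Iff.rfl
  rw [hcoe]
  constructor
  · intro hx
    obtain ⟨U, hU, hxU, -⟩ := exists_isAffineOpen_mem_and_subset (x := x) (U := ⊤) trivial
    have hz : x ∉ X.zeroLocus (U := U) (I.ideal ⟨U, hU⟩) := fun h =>
      hx ((I.coe_support_inter ⟨U, hU⟩).ge ⟨h, hxU⟩).1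
    simp only [Scheme.mem_zeroLocus_iff, not_forall, not_not] at hz
    obtain ⟨f, hf, hxf⟩ := hz
    have hf' := denomIdeal_res L s (X.basicOpen_le f) ((hI ⟨U, hU⟩).le hf)
    have hu : IsUnit (X.presheaf.map (homOfLE (X.basicOpen_le f)).op f) := RingedSpace.isUnit_res_basicOpen _ f
    have h1 : (1 : Γ(X, X.basicOpen f)) ∈ Mero.denomIdeal L s (X.basicOpen f) := by
      rw [Ideal.eq_top_of_isUnit_mem _ hf' hu]; trivial
    obtain ⟨m, hm⟩ := h1
    refine ⟨X.basicOpen f, hxf, m, fun y => ?_⟩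
    have := hm y
    rw [map_one, one_smul] at this
    exact this
  · rintro ⟨V, hxV, m, hm⟩ hx
    obtain ⟨U, hU, hxU, hUV⟩ := exists_isAffineOpen_mem_and_subset (x := x) (U := V) hxV
    have h1 : (1 : Γ(X, U)) ∈ I.ideal ⟨U, hU⟩ := by
      rw [hI]
      refine ⟨L.presheaf.map (homOfLE hUV).op m, fun y => ?_⟩
      rw [map_one, one_smul]
      exact (hm ⟨y.1, hUV y.2⟩).trans
        (congrArg (LocalizedModule.mkLinearMap _ _) (L.presheaf.germ_res_apply (homOfLE hUV) y.1 y.2 m).symm)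
    have h2 := ((I.coe_support_inter ⟨U, hU⟩).le ⟨hx, hxU⟩).1
    exact (Scheme.mem_zeroLocus_iff _ _ _).1 h2 1 h1 (by rw [X.basicOpen_of_isUnit isUnit_one]; exact hxU)

end Groth.Agent.H11Mero
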