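import Groth.Agent.H11Ample.Basic
import Groth.Agent.H11Tilde.StalkGen
import Groth.Prelude.Def_MeroDiv

/-!
# The ideal of denominators of a meromorphic section is quasi-coherent
-/

set_option autoImplicit false
set_option linter.style.haveILetI false

noncomputable section

universe u

open CategoryTheory AlgebraicGeometry TopologicalSpace Opposite
open Groth.Agent.H11Tilde Groth.Agent.H11Ample

namespace Groth.Agent.H11Mero

variable {X : Scheme.{u}} (L : X.Modules) (s : Γ(Mero.merMod L, ⊤))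

theorem denomIdeal_res {U W : X.Opens} (h : W ≤ U) {f : Γ(X, U)} (hf : f ∈ Mero.denomIdeal L s U) :
    X.presheaf.map (homOfLE h).op f ∈ Mero.denomIdeal L s W := by
  obtain ⟨m, hm⟩ := hf
  refine ⟨L.presheaf.map (homOfLE h).op m, fun x => ?_⟩
  rw [X.presheaf.germ_res_apply, L.presheaf.germ_res_apply]
  exact hm ⟨x.1, h x.2⟩

variable {L}

theorem mkLinearMap_injective (hL : PicF.IsInvertible L) (y : X) :
    Function.Injective (LocalizedModule.mkLinearMap (Mero.regStalk X y) (L.presheaf.stalk y)) := by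
  intro a b hab
  obtain ⟨V, e, hyV, he⟩ := exists_gen hL y
  obtain ⟨c, hc⟩ := (he y hyV).2 a
  obtain ⟨d, hd⟩ := (he y hyV).2 b
  obtain ⟨u, hu⟩ := LocalizedModule.mk_eq.1 hab
  simp only [one_smul] at hu
  rw [← hc, ← hd, Submonoid.smul_def, Submonoid.smul_def, smul_smul, smul_smul] at hu
  have h1 := (he y hyV).1 hu
  have h2 : (u : X.presheaf.stalk y) * (c - d) = 0 := by rw [mul_sub, h1, sub_self]
  rw [← hc, ← hd]
  exact congrArg (· • _) (sub_eq_zero.1 ((mem_nonZeroDivisors_iff.1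
    (Mero.regStalk_le_nonZeroDivisors y u.2)).1 _ h2))

theorem mem_denomIdeal_of_locally (hL : PicF.IsInvertible L) {U : X.Opens} (f : Γ(X, U))
    (h : ∀ x ∈ U, ∃ (W : X.Opens) (hW : W ≤ U), x ∈ W ∧
      X.presheaf.map (homOfLE hW).op f ∈ Mero.denomIdeal L s W) :
    f ∈ Mero.denomIdeal L s U := by
  choose W hW hxW hf using fun x : U => h x.1 x.2
  choose m hm using hf
  have hcompat : TopCat.Presheaf.IsCompatible L.presheaf W m := fun i j => by
    refine TopCat.Presheaf.section_ext ⟨L.presheaf, L.isSheaf⟩ (W i ⊓ W j) _ _ fun y hy => ?_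
    refine (L.presheaf.germ_res_apply _ y hy _).trans (Eq.trans ?_ (L.presheaf.germ_res_apply _ y hy _).symm)
    refine mkLinearMap_injective hL y ?_
    rw [← hm i ⟨y, hy.1⟩, ← hm j ⟨y, hy.2⟩, X.presheaf.germ_res_apply, X.presheaf.germ_res_apply]
  obtain ⟨σ, hσ, -⟩ := TopCat.Sheaf.existsUnique_gluing' ⟨L.presheaf, L.isSheaf⟩ W U
    (fun i => homOfLE (hW i)) (fun x hx => Opens.mem_iSup.2 ⟨⟨x, hx⟩, hxW ⟨x, hx⟩⟩) m hcompat
  refine ⟨σ, fun x => ?_⟩
  have := hm x ⟨x.1, hxW x⟩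
  rw [X.presheaf.germ_res_apply, ← hσ x] at this
  refine this.trans (congrArg _ ?_)
  exact L.presheaf.germ_res_apply _ x.1 _ σ

/-- Near every point the section is a fraction of a generator. -/
theorem exists_chart (hL : PicF.IsInvertible L) (x : X) :
    ∃ (V : X.Opens) (e : Γ(L, V)) (a b : Γ(X, V)), x ∈ V ∧ IsGen L e ∧ ∃ hb : b ∈ Mero.regSub X V,
      ∀ y : V, s.1 ⟨y.1, Opens.mem_top y.1⟩ =
        LocalizedModule.mk (L.presheaf.germ V y.1 y.2 (a • e))
          (Mero.regGerm y ⟨b, hb⟩) := by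
  obtain ⟨V₀, hxV₀, i, m, b, hmb⟩ := s.2 ⟨x, Opens.mem_top x⟩
  obtain ⟨V₁, e, hxV₁, he⟩ := exists_gen hL x
  let V := V₀ ⊓ V₁
  obtain ⟨a, ha⟩ := exists_coeff (he.res (inf_le_right : V ≤ V₁))
    (L.presheaf.map (homOfLE (inf_le_left : V ≤ V₀)).op m)
  refine ⟨V, _, a, X.presheaf.map (homOfLE (inf_le_left : V ≤ V₀)).op b.1, ⟨hxV₀, hxV₁⟩, he.res inf_le_right,
    Mero.regSub_res _ b.2, fun y => ?_⟩
  rw [← ha]
  refine (hmb ⟨y.1, y.2.1⟩).trans ?_
  exact Mero.mk_congr (L.presheaf.germ_res_apply _ y.1 y.2 m).symm (X.presheaf.germ_res_apply _ y.1 y.2 b.1).symm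

section Chart

variable (hL : PicF.IsInvertible L) {V : X.Opens} {e : Γ(L, V)} {a b : Γ(X, V)} (he : IsGen L e)
  (hb : b ∈ Mero.regSub X V)
  (hs : ∀ y : V, s.1 ⟨y.1, Opens.mem_top y.1⟩ = LocalizedModule.mk (L.presheaf.germ V y.1 y.2 (a • e))
    (Mero.regGerm y ⟨b, hb⟩))

include hL he hs in
/-- On a chart the denominators form a colon ideal. -/
theorem mem_denomIdeal_iff {W : X.Opens} (h : W ≤ V) (f : Γ(X, W)) :
    f ∈ Mero.denomIdeal L s W ↔
      f * X.presheaf.map (homOfLE h).op a ∈ Ideal.span {X.presheaf.map (homOfLE h).op b} := by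
  rw [Ideal.mem_span_singleton']
  constructor
  · rintro ⟨m, hm⟩
    obtain ⟨c, rfl⟩ := exists_coeff (he.res h) m
    refine ⟨c, TopCat.Presheaf.section_ext X.sheaf W _ _ fun y hy => ?_⟩
    change X.presheaf.germ W y hy _ = X.presheaf.germ W y hy _
    have h1 := hm ⟨y, hy⟩
    rw [hs ⟨y, h hy⟩, LocalizedModule.smul'_mk, LocalizedModule.mkLinearMap_apply] at h1
    obtain ⟨u, hu⟩ := LocalizedModule.mk_eq.1 h1
    simp only [one_smul, Submonoid.smul_def, Mero.germ_smul, L.presheaf.germ_res_apply, smul_smul] at hu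
    have h2 := (he y (h hy)).1 hu
    change _ = _ at h2
    simp only [map_mul, X.presheaf.germ_res_apply]
    refine (mul_cancel_left_mem_nonZeroDivisors (Mero.regStalk_le_nonZeroDivisors y u.2)).1 ?_
    linear_combination -h2
  · rintro ⟨c, hc⟩
    refine ⟨c • L.presheaf.map (homOfLE h).op e, fun y => ?_⟩
    rw [hs ⟨y.1, h y.2⟩, LocalizedModule.smul'_mk]
    refine LocalizedModule.mk_eq.2 ⟨1, ?_⟩
    simp only [one_smul, Submonoid.smul_def, Mero.germ_smul, L.presheaf.germ_res_apply, smul_smul]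
    refine congrArg (· • L.presheaf.germ V y.1 (h y.2) e) ?_
    have := congrArg (X.presheaf.germ W y.1 y.2) hc
    simp only [map_mul, X.presheaf.germ_res_apply] at this
    rw [← this, mul_comm]

include hL he hs in
/-- On a chart denominators of a basic open come from denominators. -/
theorem exists_pow_mul_mem {W : X.Opens} (hW : IsAffineOpen W) (h : W ≤ V) (g f : Γ(X, W))
    (hf : X.presheaf.map (homOfLE (X.basicOpen_le g)).op f ∈ Mero.denomIdeal L s (X.basicOpen g)) :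
    ∃ N : ℕ, g ^ N * f ∈ Mero.denomIdeal L s W := by
  haveI := hW.isLocalization_basicOpen g
  have h1 := (mem_denomIdeal_iff s hL he hb hs ((X.basicOpen_le g).trans h) _).1 hf
  have h2 : algebraMap Γ(X, W) Γ(X, X.basicOpen g) (f * X.presheaf.map (homOfLE h).op a) ∈
      (Ideal.span {X.presheaf.map (homOfLE h).op b}).map (algebraMap Γ(X, W) Γ(X, X.basicOpen g)) := by
    rw [Ideal.map_span, Set.image_singleton, map_mul]
    have e : ∀ c : Γ(X, V), algebraMap Γ(X, W) Γ(X, X.basicOpen g) (X.presheaf.map (homOfLE h).op c) =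
        X.presheaf.map (homOfLE ((X.basicOpen_le g).trans h)).op c := fun c => by
      change X.presheaf.map (homOfLE (X.basicOpen_le g)).op (X.presheaf.map (homOfLE h).op c) = _
      rw [← CommRingCat.comp_apply, ← Functor.map_comp]
      rfl
    rw [e, e]
    exact h1
  obtain ⟨t, ⟨N, rfl⟩, hN⟩ := (IsLocalization.algebraMap_mem_map_algebraMap_iff (Submonoid.powers g)
    Γ(X, X.basicOpen g) _ _).1 h2
  exact ⟨N, (mem_denomIdeal_iff s hL he hb hs h _).2 (by rw [mul_assoc]; exact hN)⟩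

end Chart

theorem map_denomIdeal (hL : PicF.IsInvertible L) (U : X.affineOpens) (g : Γ(X, U.1)) :
    (Mero.denomIdeal L s U.1).map (X.presheaf.map (homOfLE (X.basicOpen_le g)).op).hom =
      Mero.denomIdeal L s (X.basicOpen g) := by
  refine le_antisymm (Ideal.map_le_iff_le_comap.2 fun f hf => denomIdeal_res L s (X.basicOpen_le g) hf) fun f hf => ?_
  haveI := U.2.isLocalization_basicOpen g
  obtain ⟨n, f₀, hf₀⟩ := IsLocalization.Away.surj g f
  have hu : IsUnit (algebraMap Γ(X, U.1) Γ(X, X.basicOpen g) g) := IsLocalization.Away.algebraMap_isUnit g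
  have hf0 : X.presheaf.map (homOfLE (X.basicOpen_le g)).op f₀ ∈ Mero.denomIdeal L s (X.basicOpen g) := by
    change algebraMap Γ(X, U.1) Γ(X, X.basicOpen g) f₀ ∈ _
    rw [← hf₀]
    exact Ideal.mul_mem_right _ _ hf
  have hpt : ∀ x : U.1, ∃ (h : Γ(X, U.1)) (N : ℕ), x.1 ∈ X.basicOpen h ∧
      X.presheaf.map (homOfLE (X.basicOpen_le h)).op (g ^ N * f₀) ∈ Mero.denomIdeal L s (X.basicOpen h) := by
    intro x
    obtain ⟨V, e, a, b, hxV, he, hb, hs⟩ := exists_chart s hL x.1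
    obtain ⟨h, hhV, hxh⟩ := U.2.exists_basicOpen_le (V := V) ⟨x.1, hxV⟩ x.2
    let W := X.basicOpen h
    let ρ : Γ(X, U.1) → Γ(X, W) := fun c => X.presheaf.map (homOfLE (X.basicOpen_le h)).op c
    have hle : X.basicOpen (ρ g) ≤ X.basicOpen g := by
      rw [show X.basicOpen (ρ g) = W ⊓ X.basicOpen g from X.basicOpen_res g _]
      exact inf_le_right
    obtain ⟨N, hN⟩ := exists_pow_mul_mem s hL he hb hs (U.2.basicOpen h) hhV (ρ g) (ρ f₀) (by
      have := denomIdeal_res L s hle hf0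
      rw [← CommRingCat.comp_apply, ← Functor.map_comp] at this ⊢
      exact this)
    exact ⟨h, N, hxh, by simpa only [ρ, map_mul, map_pow] using hN⟩
  choose h N hxh hN using hpt
  obtain ⟨T, hT⟩ := U.2.isCompact.elim_finite_subcover (fun x : U.1 => (X.basicOpen (h x) : Set X))
    (fun x => (X.basicOpen (h x)).2) (fun x hx => Set.mem_iUnion.2 ⟨⟨x, hx⟩, hxh ⟨x, hx⟩⟩)
  let M := T.sup N
  have hM : g ^ M * f₀ ∈ Mero.denomIdeal L s U.1 := by
    refine mem_denomIdeal_of_locally s hL _ fun x hx => ?_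
    obtain ⟨z, hzT, hxz⟩ := Set.mem_iUnion₂.1 (hT hx)
    refine ⟨_, X.basicOpen_le (h z), hxz, ?_⟩
    obtain ⟨d, hd⟩ := Nat.exists_eq_add_of_le (Finset.le_sup (f := N) hzT)
    rw [show M = _ from hd, pow_add, mul_right_comm, map_mul]
    exact Ideal.mul_mem_right _ _ (hN z)
  have := Ideal.mem_map_of_mem (X.presheaf.map (homOfLE (X.basicOpen_le g)).op).hom hM
  change algebraMap Γ(X, U.1) Γ(X, X.basicOpen g) (g ^ M * f₀) ∈ _ at this
  rw [map_mul, ← hf₀, map_pow] at this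
  rwa [Ideal.unit_mul_mem_iff_mem _ (hu.pow M), Ideal.mul_unit_mem_iff_mem _ ?_] at this
  exact hu.pow n

theorem result (hL : PicF.IsInvertible L) :
    ∃ I : X.IdealSheafData, (∀ U : X.affineOpens, I.ideal U = Mero.denomIdeal L s U.1) ∧
      interior (I.support : Set X) = ∅ := by
  let I : X.IdealSheafData :=
    { ideal := fun U => Mero.denomIdeal L s U.1
      map_ideal_basicOpen := map_denomIdeal s hL }
  refine ⟨I, fun U => rfl, Set.eq_empty_iff_forall_notMem.2 fun x hx => ?_⟩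
  obtain ⟨V, e, a, b, hxV, he, hb, hs⟩ := exists_chart s hL x
  obtain ⟨_, ⟨W, hW, rfl⟩, hxW, hWsub⟩ :=
    X.isBasis_affineOpens.exists_subset_of_mem_open (show x ∈ (V : Set X) ∩ interior (I.support : Set X) from ⟨hxV, hx⟩)
      (V.2.inter isOpen_interior)
  have hWV : W ≤ V := fun y hy => (hWsub hy).1
  let bW := X.presheaf.map (homOfLE hWV).op b
  have hbmem : bW ∈ Mero.denomIdeal L s W :=
    (mem_denomIdeal_iff s hL he hb hs hWV bW).2 (Ideal.mem_span_singleton'.2 ⟨_, mul_comm _ _⟩)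
  have hempty : X.basicOpen bW = ⊥ := by
    refine eq_bot_iff.2 fun y hy => ?_
    have hyW : y ∈ W := X.basicOpen_le _ hy
    have hyI : y ∈ (I.support : Set X) := interior_subset (hWsub hyW).2
    rw [Scheme.IdealSheafData.coe_support_eq_eq_iInter_zeroLocus, Set.mem_iInter] at hyI
    exact ((Scheme.mem_zeroLocus_iff _ _ _).1 (hyI ⟨W, hW⟩)) bW hbmem hy
  have hnil : IsNilpotent bW := (Scheme.isNilpotent_iff_basicOpen_eq_bot_of_isCompact hW.isCompact bW).2 hempty
  obtain ⟨k, hk⟩ := hnil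
  have h0 : X.presheaf.germ W x hxW bW ^ k = 0 := by rw [← map_pow, hk, map_zero]
  have h1 : X.presheaf.germ W x hxW bW ∈ nonZeroDivisors (X.presheaf.stalk x) := Mero.regSub_res (homOfLE hWV) hb ⟨x, hxW⟩
  exact one_ne_zero (mem_nonZeroDivisors_iff.1 (h0 ▸ pow_mem h1 k) |>.1 1 (zero_mul _) : (1 : X.presheaf.stalk x) = 0)

end Groth.Agent.H11Mero
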